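import Groth.Agent.CartanRel26.Rel
import Mathlib.RingTheory.Flat.FaithfullyFlat.Algebra
import Mathlib.RingTheory.RingHom.Flat

/-!
# Quasi-regular elements after a change of base ring; universal characteristic polynomial
-/

universe u

open scoped TensorProduct
open Polynomial Module LieAlgebra

attribute [local instance 100] LieRing.ofAssociativeRing

namespace Groth.Agent.CartanRel26

variable {A : Type u} [CommRing A] {L : Type u} [LieRing L] [LieAlgebra A L]
  [Module.Finite A L] [Module.Projective A L]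

theorem ker_algebraMap_residueField (B : Type u) [CommRing B] [Algebra A B] (Q : PrimeSpectrum B) :
    RingHom.ker (algebraMap A Q.asIdeal.ResidueField) =
      (PrimeSpectrum.comap (algebraMap A B) Q).asIdeal := by
  ext x
  rw [RingHom.mem_ker, IsScalarTower.algebraMap_apply A B Q.asIdeal.ResidueField,
    Ideal.algebraMap_residueField_eq_zero]
  rfl

theorem rankAt_baseChange (B : Type u) [CommRing B] [Algebra A B] (Q : PrimeSpectrum B) :
    rankAt (B ⊗[A] L) Q = rankAt L (PrimeSpectrum.comap (algebraMap A B) Q) := by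
  rw [rankAt, rank_equiv _ (TensorProduct.AlgebraTensorModule.cancelBaseChange A B
    Q.asIdeal.ResidueField Q.asIdeal.ResidueField L) (cancel_bracket _ _)]
  exact (isRegular_field_iff (L := L) _ _ (ker_algebraMap_residueField B Q)).1

theorem isRegular_baseChange_fibre_iff (B : Type u) [CommRing B] [Algebra A B] (Q : PrimeSpectrum B)
    (a : L) :
    IsRegular Q.asIdeal.ResidueField ((1 : Q.asIdeal.ResidueField) ⊗ₜ[B] ((1 : B) ⊗ₜ[A] a)) ↔
      IsRegular (PrimeSpectrum.comap (algebraMap A B) Q).asIdeal.ResidueField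
        ((1 : (PrimeSpectrum.comap (algebraMap A B) Q).asIdeal.ResidueField) ⊗ₜ[A] a) := by
  rw [← isRegular_equiv_iff _ (TensorProduct.AlgebraTensorModule.cancelBaseChange A B
    Q.asIdeal.ResidueField Q.asIdeal.ResidueField L) (cancel_bracket _ _),
    TensorProduct.AlgebraTensorModule.cancelBaseChange_tmul, one_smul]
  exact (isRegular_field_iff (L := L) _ _ (ker_algebraMap_residueField B Q)).2 a

theorem Pres.coeff_eq_zero_of_lt [IsReduced A] (P : Pres A L) (f : A) (k : ℕ)
    (hf : ∀ q : PrimeSpectrum A, f ∉ q.asIdeal → k < rankAt L q)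
    (B : Type u) [CommRing B] [Algebra A B] (c : Fin P.n → B) :
    algebraMap A B f * (P.mat B c).charpoly.coeff k = 0 := by
  let S := MvPolynomial (Fin P.n) A
  suffices hu : algebraMap A S f * (P.mat S MvPolynomial.X).charpoly.coeff k = 0 by
    have h2 := congrArg (MvPolynomial.aeval (R := A) c) hu
    have hc : c = (MvPolynomial.aeval (R := A) c : S →ₐ[A] B) ∘ MvPolynomial.X := by
      funext j; simp [S]
    rw [map_mul, map_zero, AlgHom.commutes] at h2
    rw [hc, P.charpoly_mat_map, Polynomial.coeff_map]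
    exact h2
  haveI : IsReduced S := inferInstance
  refine IsReduced.eq_zero _ ((nilpotent_iff_mem_prime).2 fun Q hQ => ?_)
  by_cases hfQ : algebraMap A S f ∈ Q
  · exact Ideal.mul_mem_right _ _ hfQ
  refine Ideal.mul_mem_left _ _ ?_
  let Q' : PrimeSpectrum S := ⟨Q, hQ⟩
  let q := PrimeSpectrum.comap (algebraMap A S) Q'
  have hfq : f ∉ q.asIdeal := hfQ
  have hr : LieAlgebra.rank Q.ResidueField (Q.ResidueField ⊗[A] L) = rankAt L q :=
    (isRegular_field_iff (L := L) Q.ResidueField q (ker_algebraMap_residueField S Q')).1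
  have hle := P.rank_le Q.ResidueField
    ((IsScalarTower.toAlgHom A S Q.ResidueField) ∘ MvPolynomial.X)
  rw [hr, P.charpoly_mat_map] at hle
  have h0 := Polynomial.coeff_eq_zero_of_lt_natTrailingDegree ((hf q hfq).trans_le hle)
  rw [Polynomial.coeff_map] at h0
  exact Ideal.algebraMap_residueField_eq_zero.1 h0

/-- Over a reduced ring, locally constant rank makes every quasi-regular element regular,
after any change of ring. -/
theorem isRegularRel_of_isQuasiRegular [IsReduced A]
    (hC0 : ∀ p : PrimeSpectrum A, ∃ f : A, f ∉ p.asIdeal ∧ ∀ q : PrimeSpectrum A, f ∉ q.asIdeal →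
      rankAt L q = rankAt L p)
    (B : Type u) [CommRing B] [Algebra A B] (a : B ⊗[A] L)
    (ha : SGA3t2b.IsQuasiRegular B (B ⊗[A] L) a) : SGA3t2b.IsRegularRel B (B ⊗[A] L) a := by
  obtain ⟨P⟩ := nonempty_pres (A := A) L
  obtain ⟨c, rfl⟩ := P.exists_pt_eq B a
  set T := ad B (B ⊗[A] L) (P.pt B c) with hT
  let J : Ideal B :=
    { carrier := {s | ∃ (N : ℕ) (R : B[X]), R.coeff 0 = s ∧ aeval T ((X : B[X]) ^ N * R) = 0}
      zero_mem' := ⟨0, 0, by simp, by simp⟩
      add_mem' := by
        rintro s t ⟨N, R, rfl, hR⟩ ⟨M, Q, rfl, hQ⟩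
        refine ⟨max N M, R + Q, by simp, ?_⟩
        have e1 : (X : B[X]) ^ max N M * R = X ^ (max N M - N) * (X ^ N * R) := by
          rw [← mul_assoc, ← pow_add]; congr 2; omega
        have e2 : (X : B[X]) ^ max N M * Q = X ^ (max N M - M) * (X ^ M * Q) := by
          rw [← mul_assoc, ← pow_add]; congr 2; omega
        rw [mul_add, map_add, e1, e2, map_mul _ _ ((X : B[X]) ^ N * R), hR,
          map_mul _ _ ((X : B[X]) ^ M * Q), hQ, mul_zero, mul_zero, add_zero]
      smul_mem' := by
        rintro b s ⟨N, R, rfl, hR⟩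
        exact ⟨N, C b * R, by simp, by rw [mul_left_comm, map_mul, hR, mul_zero]⟩ }
  have hJ : J = ⊤ := by
    by_contra hne
    obtain ⟨Q, hQm, hJQ⟩ := Ideal.exists_le_maximal J hne
    let Q' : PrimeSpectrum B := ⟨Q, hQm.isPrime⟩
    let q := PrimeSpectrum.comap (algebraMap A B) Q'
    obtain ⟨f, hfq, hfr⟩ := hC0 q
    set r := rankAt L q
    set χ := (P.mat B c).charpoly with hχ
    have hlow : ∀ k < r, (C (algebraMap A B f) * χ).coeff k = 0 := fun k hk => by
      rw [Polynomial.coeff_C_mul]
      exact P.coeff_eq_zero_of_lt f k (fun q' hq' => by rw [hfr q' hq']; exact hk) B c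
    obtain ⟨R, hR⟩ := Polynomial.X_pow_dvd_iff.2 hlow
    have hRJ : R.coeff 0 ∈ J := ⟨r, R, rfl, by
      rw [← hR, map_mul, hT, P.aeval_charpoly, mul_zero]⟩
    have hR0 : R.coeff 0 = algebraMap A B f * χ.coeff r := by
      rw [← Polynomial.coeff_C_mul, hR]
      simpa using (Polynomial.coeff_X_pow_mul R r 0).symm
    have hmem : algebraMap A B f * χ.coeff r ∈ Q := hR0 ▸ hJQ hRJ
    refine (hQm.isPrime.mem_or_mem hmem).elim hfq fun hc => ?_
    have hreg := ha Q'
    let e := TensorProduct.AlgebraTensorModule.cancelBaseChange A B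
      Q'.asIdeal.ResidueField Q'.asIdeal.ResidueField L
    have hept : e ((1 : Q'.asIdeal.ResidueField) ⊗ₜ[B] P.pt B c) =
        P.pt Q'.asIdeal.ResidueField ((IsScalarTower.toAlgHom A B Q'.asIdeal.ResidueField) ∘ c) := by
      simp [e, Pres.pt, TensorProduct.tmul_sum, TensorProduct.smul_tmul', Algebra.smul_def]
    rw [← isRegular_equiv_iff _ e (cancel_bracket _ _), hept, P.isRegular_pt_iff,
      (isRegular_field_iff (L := L) Q'.asIdeal.ResidueField q (ker_algebraMap_residueField B Q')).1,
      P.charpoly_mat_map, Polynomial.coeff_map] at hreg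
    exact hreg (Ideal.algebraMap_residueField_eq_zero.2 hc)
  obtain ⟨N, R, hR0, hR⟩ : (1 : B) ∈ J := hJ ▸ Submodule.mem_top
  have hu : IsUnit (R.coeff 0) := hR0 ▸ isUnit_one
  obtain ⟨hproj, hsurj⟩ := projective_and_bijective_mod T N R hu hR
  have hker : (LieSubalgebra.engel B (P.pt B c)).toSubmodule = LinearMap.ker (T ^ N) := by
    ext y
    rw [LieSubalgebra.mem_toSubmodule, LieSubalgebra.mem_engel_iff, LinearMap.mem_ker]
    exact ⟨fun ⟨k, hk⟩ => ker_eq_of_aeval T N R hu hR hk, fun h => ⟨N, h⟩⟩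
  refine ⟨ha, LieSubalgebra.engel B (P.pt B c), isCartanRel_engel _ ha ?_ ?_,
    LieSubalgebra.self_mem_engel B _⟩
  · rw [hker]; exact hproj
  · intro y
    obtain ⟨z, hz⟩ := hsurj y
    exact ⟨z, by rw [← LieSubalgebra.mem_toSubmodule, hker]; exact hz⟩

/-- Descent of local constancy along a faithfully flat algebra. -/
theorem isLocallyConstant_of_comap {α : Type*} (F : PrimeSpectrum A → α) (B : Type u) [CommRing B]
    [Algebra A B] [Module.FaithfullyFlat A B]
    (h : IsLocallyConstant (F ∘ PrimeSpectrum.comap (algebraMap A B))) : IsLocallyConstant F := by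
  have hq := PrimeSpectrum.isQuotientMap_of_generalizingMap
    (PrimeSpectrum.comap_surjective_of_faithfullyFlat (A := A) (B := B))
    (RingHom.Flat.generalizingMap_comap
      ((RingHom.flat_algebraMap_iff).2 (inferInstance : Module.Flat A B)))
  intro s
  rw [← hq.isOpen_preimage]
  exact h s

end Groth.Agent.CartanRel26
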