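import Mathlib.Algebra.Lie.Rank
import Mathlib.Algebra.Lie.CartanExists
import Mathlib.Algebra.Lie.CartanSubalgebra
import Mathlib.Algebra.Lie.Weights.Cartan
import Mathlib.Algebra.Lie.BaseChange
import Mathlib.FieldTheory.IsAlgClosed.AlgebraicClosure
import Mathlib.LinearAlgebra.Charpoly.BaseChange
import Mathlib.RingTheory.Flat.FaithfullyFlat.Algebra

/-!
# Rank, regular elements and Engel subalgebras of Lie algebras over arbitrary fields
-/

universe u

open scoped TensorProduct
open Polynomial Module LieAlgebra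

namespace Groth.Agent.CartanRel26

attribute [local instance 100] LieRing.ofAssociativeRing

variable (K : Type u) [Field K] {L : Type u} [LieRing L] [LieAlgebra K L] [Module.Finite K L]

omit [Module.Finite K L] in
theorem ad_one_tmul (K' : Type u) [Field K'] [Algebra K K'] (x : L) :
    ad K' (K' ⊗[K] L) ((1 : K') ⊗ₜ x) = (ad K L x).baseChange K' :=
  by ext; simp [LieAlgebra.ExtendScalars.bracket_tmul]

theorem rank_baseChange (K' : Type u) [Field K'] [Algebra K K'] :
    LieAlgebra.rank K' (K' ⊗[K] L) = LieAlgebra.rank K L := by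
  classical
  let b := Module.Free.chooseBasis K L
  rw [LieAlgebra.rank_eq_natTrailingDegree K L b,
    LieAlgebra.rank_eq_natTrailingDegree K' _ (Algebra.TensorProduct.basis K' b)]
  have h : (ad K' (K' ⊗[K] L)).toLinearMap =
      LinearMap.tensorProduct K K' L L ∘ₗ (ad K L).toLinearMap.baseChange K' := by
    ext x y
    simp [LinearMap.tensorProduct, LieAlgebra.ExtendScalars.bracket_tmul]
  rw [h, LinearMap.polyCharpoly_baseChange]
  simp only [Polynomial.natTrailingDegree, Polynomial.trailingDegree,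
    Polynomial.support_map_of_injective _
      (MvPolynomial.map_injective _ (algebraMap K K').injective)]

theorem charpoly_ad_one_tmul (K' : Type u) [Field K'] [Algebra K K'] (x : L) :
    (ad K' (K' ⊗[K] L) ((1 : K') ⊗ₜ x)).charpoly = (ad K L x).charpoly.map (algebraMap K K') := by
  rw [ad_one_tmul, LinearMap.charpoly_baseChange]

theorem isRegular_baseChange_iff (K' : Type u) [Field K'] [Algebra K K'] (x : L) :
    IsRegular K' ((1 : K') ⊗ₜ[K] x) ↔ IsRegular K x := by
  rw [LieAlgebra.isRegular_def, LieAlgebra.isRegular_def, rank_baseChange, charpoly_ad_one_tmul,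
    Polynomial.coeff_map]
  simp

/-- The Engel subalgebra of a regular element is contained in those of its elements. -/
theorem engel_le_engel_of_isRegular {x : L} (hx : IsRegular K x) {y : L}
    (hy : y ∈ LieSubalgebra.engel K x) : LieSubalgebra.engel K x ≤ LieSubalgebra.engel K y := by
  let K' := AlgebraicClosure K
  have hx' : IsRegular K' ((1 : K') ⊗ₜ[K] x) := (isRegular_baseChange_iff K K' x).2 hx
  have hpow : ∀ (a z : L) (k : ℕ), (ad K' (K' ⊗[K] L) ((1 : K') ⊗ₜ a) ^ k) ((1 : K') ⊗ₜ z) =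
      (1 : K') ⊗ₜ ((ad K L a ^ k) z) := fun a z k => by
    rw [ad_one_tmul, ← LinearMap.baseChange_pow, LinearMap.baseChange_tmul]
  have hmem : ∀ a z : L, z ∈ LieSubalgebra.engel K a →
      (1 : K') ⊗ₜ z ∈ LieSubalgebra.engel K' ((1 : K') ⊗ₜ[K] a) := fun a z hz => by
    obtain ⟨k, hk⟩ := (LieSubalgebra.mem_engel_iff K a z).1 hz
    exact (LieSubalgebra.mem_engel_iff K' _ _).2 ⟨k, by rw [hpow, hk, TensorProduct.tmul_zero]⟩
  let Ex : {LieSubalgebra.engel K' z | z ∈ LieSubalgebra.engel K' ((1 : K') ⊗ₜ[K] x)} :=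
    ⟨_, _, LieSubalgebra.self_mem_engel _ _, rfl⟩
  have hbot : IsBot Ex := by
    refine LieAlgebra.engel_isBot_of_isMin
      (Cardinal.natCast_le_aleph0.trans <| Cardinal.infinite_iff.mp inferInstance) _ Ex le_rfl ?_
    rintro ⟨_, z, hz, rfl⟩ hzx
    suffices LieSubalgebra.engel K' z = LieSubalgebra.engel K' ((1 : K') ⊗ₜ[K] x) from this.ge
    apply LieSubalgebra.toSubmodule_injective
    refine Submodule.eq_of_le_of_finrank_le hzx ?_
    exact ((isRegular_iff_finrank_engel_eq_rank K' _).mp hx').le.trans (rank_le_finrank_engel K' z)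
  intro z hz
  have h1 : (1 : K') ⊗ₜ z ∈ LieSubalgebra.engel K' ((1 : K') ⊗ₜ[K] y) :=
    hbot ⟨_, _, hmem x y hy, rfl⟩ (hmem x z hz)
  obtain ⟨k, hk⟩ := (LieSubalgebra.mem_engel_iff K' _ _).1 h1
  rw [hpow] at hk
  refine (LieSubalgebra.mem_engel_iff K y z).2 ⟨k, ?_⟩
  exact (Module.FaithfullyFlat.one_tmul_eq_zero_iff K L _).1 hk

/-- The Engel subalgebra of a regular element is nilpotent, over any field. -/
theorem isNilpotent_engel {x : L} (hx : IsRegular K x) :
    LieRing.IsNilpotent (LieSubalgebra.engel K x) :=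
  LieSubalgebra.isNilpotent_of_forall_le_engel _ fun _ hy => engel_le_engel_of_isRegular K hx hy

/-- Rank and regularity are invariant under linear equivalences preserving brackets. -/
theorem charpoly_ad_equiv {L' : Type u} [LieRing L'] [LieAlgebra K L'] [Module.Finite K L']
    (e : L ≃ₗ[K] L') (he : ∀ a b, e ⁅a, b⁆ = ⁅e a, e b⁆) (x : L) :
    (ad K L' (e x)).charpoly = (ad K L x).charpoly := by
  have : ad K L' (e x) = e.conj (ad K L x) := by
    ext z; simp [LinearEquiv.conj_apply, he]
  rw [this, LinearEquiv.charpoly_conj]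

theorem rank_equiv_le [Infinite K] {L' : Type u} [LieRing L'] [LieAlgebra K L'] [Module.Finite K L']
    (e : L ≃ₗ[K] L') (he : ∀ a b, e ⁅a, b⁆ = ⁅e a, e b⁆) :
    LieAlgebra.rank K L ≤ LieAlgebra.rank K L' := by
  obtain ⟨y, hy⟩ := LieAlgebra.exists_isRegular K L'
  rw [← (isRegular_iff_natTrailingDegree_charpoly_eq_rank K y).1 hy, ← e.apply_symm_apply y,
    charpoly_ad_equiv K e he]
  exact rank_le_natTrailingDegree_charpoly_ad K _

theorem rank_equiv {L' : Type u} [LieRing L'] [LieAlgebra K L'] [Module.Finite K L']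
    (e : L ≃ₗ[K] L') (he : ∀ a b, e ⁅a, b⁆ = ⁅e a, e b⁆) :
    LieAlgebra.rank K L = LieAlgebra.rank K L' := by
  rw [← rank_baseChange K (L := L) (AlgebraicClosure K), ← rank_baseChange K (L := L') (AlgebraicClosure K)]
  have key : ∀ {M M' : Type u} [LieRing M] [LieAlgebra K M] [LieRing M'] [LieAlgebra K M']
      (g : M ≃ₗ[K] M') (_ : ∀ a b, g ⁅a, b⁆ = ⁅g a, g b⁆) (a b : AlgebraicClosure K ⊗[K] M),
      g.baseChange K (AlgebraicClosure K) _ _ ⁅a, b⁆ =
        ⁅g.baseChange K (AlgebraicClosure K) _ _ a, g.baseChange K (AlgebraicClosure K) _ _ b⁆ := by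
    intro M M' _ _ _ _ g hg a b
    induction a using TensorProduct.induction_on with
    | zero => simp
    | add a a' ha ha' => simp [ha, ha']
    | tmul c a =>
      induction b using TensorProduct.induction_on with
      | zero => simp
      | add b b' hb hb' => simp [hb, hb']
      | tmul d b => simp [LieAlgebra.ExtendScalars.bracket_tmul, hg]
  refine le_antisymm (rank_equiv_le _ (e.baseChange K (AlgebraicClosure K) _ _) (key e he))
    (rank_equiv_le _ (e.symm.baseChange K (AlgebraicClosure K) _ _) (key e.symm fun a b => ?_))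
  apply e.injective
  simp [he]

theorem isRegular_equiv_iff {L' : Type u} [LieRing L'] [LieAlgebra K L'] [Module.Finite K L']
    (e : L ≃ₗ[K] L') (he : ∀ a b, e ⁅a, b⁆ = ⁅e a, e b⁆) (x : L) :
    IsRegular K (e x) ↔ IsRegular K x := by
  rw [LieAlgebra.isRegular_def, LieAlgebra.isRegular_def, charpoly_ad_equiv K e he,
    rank_equiv K e he]

theorem isRegular_smul {x : L} (hx : IsRegular K x) {c : K} (hc : c ≠ 0) : IsRegular K (c • x) := by
  rw [isRegular_iff_finrank_engel_eq_rank] at hx ⊢
  rw [← hx]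
  suffices LieSubalgebra.engel K (c • x) = LieSubalgebra.engel K x by rw [this]
  ext z
  simp only [LieSubalgebra.mem_engel_iff, map_smul, smul_pow, LinearMap.smul_apply,
    smul_eq_zero, pow_eq_zero_iff', hc, false_and, false_or]

/-- A nilpotent self-normalizing subalgebra of dimension the rank, over an infinite field, contains
a regular element. -/
theorem exists_isRegular_mem [Infinite K] (H : LieSubalgebra K L) [H.IsCartanSubalgebra]
    (hH : finrank K H = LieAlgebra.rank K L) : ∃ x ∈ H, IsRegular K x := by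
  have hle : ∀ y ∈ H, H ≤ LieSubalgebra.engel K y := fun y hy z hz => by
    obtain ⟨k, hk⟩ := LieModule.exists_forall_pow_toEnd_eq_zero K H H
    refine (LieSubalgebra.mem_engel_iff K y z).2 ⟨k, ?_⟩
    have e : ∀ (m : ℕ) (w : H), (((LieModule.toEnd K H H ⟨y, hy⟩ ^ m) w : H) : L) =
        (ad K L y ^ m) (w : L) := by
      intro m
      induction m with
      | zero => intro w; simp
      | succ m ih => intro w; rw [pow_succ, Module.End.mul_apply, ih, pow_succ, Module.End.mul_apply]; rfl
    have h0 := e k ⟨z, hz⟩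
    rw [hk ⟨y, hy⟩] at h0
    exact h0.symm
  obtain ⟨n, hn⟩ : ∃ n, ∃ y ∈ H, finrank K (LieSubalgebra.engel K y) = n ∧
      ∀ y' ∈ H, n ≤ finrank K (LieSubalgebra.engel K y') := by
    classical
    have hex : ∃ n, ∃ y ∈ H, finrank K (LieSubalgebra.engel K y) = n := ⟨_, 0, H.zero_mem, rfl⟩
    obtain ⟨y, hy, hyn⟩ := Nat.find_spec hex
    exact ⟨_, y, hy, hyn, fun y' hy' => Nat.find_le ⟨y', hy', rfl⟩⟩
  obtain ⟨x, hx, hxn, hmin⟩ := hn
  let Ex : {LieSubalgebra.engel K z | z ∈ H} := ⟨_, x, hx, rfl⟩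
  have hbot : IsBot Ex := by
    refine LieAlgebra.engel_isBot_of_isMin
      (Cardinal.natCast_le_aleph0.trans <| Cardinal.infinite_iff.mp inferInstance) H Ex (hle x hx) ?_
    rintro ⟨_, z, hz, rfl⟩ hzx
    suffices LieSubalgebra.engel K z = LieSubalgebra.engel K x from this.ge
    apply LieSubalgebra.toSubmodule_injective
    exact Submodule.eq_of_le_of_finrank_le hzx (hxn.le.trans (hmin z hz))
  refine ⟨x, hx, (isRegular_iff_finrank_engel_eq_rank K x).2 ?_⟩
  rw [← hH]
  suffices LieSubalgebra.engel K x = H by rw [this]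
  refine le_antisymm (fun z hz => ?_) (hle x hx)
  have h0 : z ∈ rootSpace H 0 := by
    rw [LieModule.mem_genWeightSpace]
    rintro ⟨y, hy⟩
    obtain ⟨k, hk⟩ := (LieSubalgebra.mem_engel_iff K y z).1 (hbot ⟨_, y, hy, rfl⟩ hz)
    refine ⟨k, ?_⟩
    simp only [Pi.zero_apply, zero_smul, sub_zero]
    have : LieModule.toEnd K H L ⟨y, hy⟩ = ad K L y := rfl
    rw [this, hk]
  rw [rootSpace_zero_eq] at h0
  exact h0

end Groth.Agent.CartanRel26
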