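import Mathlib.LinearAlgebra.Eigenspace.Zero
import Mathlib.LinearAlgebra.Charpoly.Basic
import Mathlib.LinearAlgebra.Charpoly.ToMatrix
import Mathlib.RingTheory.Finiteness.Projective
import Mathlib.RingTheory.TensorProduct.Free
import Mathlib.RingTheory.TensorProduct.Finite
import Mathlib.LinearAlgebra.TensorProduct.Tower
import Mathlib.Algebra.Lie.Rank
import Mathlib.Algebra.Lie.BaseChange
import Mathlib.RingTheory.Coprime.Basic

/-!
# Endomorphisms of finitely generated projective modules, extended to a free module

For `p ∘ i = id` with `i : M → N`, `N` free, `ext i p f = i f p + (1 - i p)` is an endomorphism of `N`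
with the same generalised kernel as `f`; its characteristic polynomial replaces that of `f`.
-/

universe u

open scoped TensorProduct
open Polynomial Module

namespace Groth.Agent.CartanRel26

section Ext

variable {R : Type u} [CommRing R] {M N : Type u} [AddCommGroup M] [Module R M]
  [AddCommGroup N] [Module R N] (i : M →ₗ[R] N) (p : N →ₗ[R] M)

/-- Extension of an endomorphism of a direct summand by the identity on the complement. -/
def ext (f : Module.End R M) : Module.End R N := i ∘ₗ f ∘ₗ p + (1 - i ∘ₗ p)

variable {i p} (hpi : p ∘ₗ i = LinearMap.id)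
include hpi

theorem pi_apply (y : M) : p (i y) = y := congr($hpi y)

theorem ext_pow (f : Module.End R M) (k : ℕ) (z : N) :
    (ext i p f ^ k) z = i ((f ^ k) (p z)) + (z - i (p z)) := by
  induction k with
  | zero => simp
  | succ k ih =>
    rw [pow_succ', Module.End.mul_apply, ih, pow_succ', Module.End.mul_apply]
    simp [ext, pi_apply hpi]

theorem ext_pow_eq_zero_iff (f : Module.End R M) (k : ℕ) (z : N) :
    (ext i p f ^ k) z = 0 ↔ ∃ y, (f ^ k) y = 0 ∧ i y = z := by
  rw [ext_pow hpi]
  constructor
  · intro h
    have h1 : (f ^ k) (p z) = 0 := by simpa [pi_apply hpi] using congrArg p h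
    refine ⟨p z, h1, ?_⟩
    rw [h1, map_zero, zero_add, sub_eq_zero] at h
    exact h.symm
  · rintro ⟨y, hy, rfl⟩
    simp [pi_apply hpi, hy]

theorem finrank_maxGenEigenspace_ext (f : Module.End R M) :
    finrank R ((ext i p f).maxGenEigenspace 0) = finrank R (f.maxGenEigenspace 0) := by
  have hi : Function.Injective i := Function.LeftInverse.injective (pi_apply hpi)
  have : (ext i p f).maxGenEigenspace 0 = (f.maxGenEigenspace 0).map i := by
    ext z
    simp only [Submodule.mem_map, Module.End.mem_maxGenEigenspace, zero_smul, sub_zero,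
      ext_pow_eq_zero_iff hpi]
    constructor
    · rintro ⟨k, y, hy, rfl⟩; exact ⟨y, ⟨k, hy⟩, rfl⟩
    · rintro ⟨y, ⟨k, hy⟩, rfl⟩; exact ⟨k, y, hy, rfl⟩
  rw [this]
  exact (Submodule.equivMapOfInjective i hi _).finrank_eq.symm

theorem aeval_ext (f : Module.End R M) (Q : R[X]) (y : M) :
    aeval (ext i p f) Q (i y) = i (aeval f Q y) := by
  induction Q using Polynomial.induction_on' with
  | add a b ha hb => simp [map_add, LinearMap.add_apply, ha, hb]
  | monomial k r => simp [aeval_monomial, ext_pow hpi, pi_apply hpi]

theorem aeval_charpoly_ext [Module.Free R N] [Module.Finite R N] (f : Module.End R M) :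
    aeval f (ext i p f).charpoly = 0 := by
  ext y
  have := aeval_ext hpi f (ext i p f).charpoly y
  rw [LinearMap.aeval_self_charpoly, LinearMap.zero_apply] at this
  simpa [pi_apply hpi] using (congrArg p this).symm

end Ext

theorem ext_baseChange {R : Type u} [CommRing R] {M N : Type u} [AddCommGroup M] [Module R M]
    [AddCommGroup N] [Module R N] (i : M →ₗ[R] N) (p : N →ₗ[R] M) (B : Type u) [CommRing B]
    [Algebra R B] (f : Module.End R M) :
    (ext i p f).baseChange B = ext (i.baseChange B) (p.baseChange B) (f.baseChange B) := by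
  rw [ext, ext, LinearMap.baseChange_add, LinearMap.baseChange_sub, LinearMap.baseChange_one,
    LinearMap.baseChange_comp, LinearMap.baseChange_comp, LinearMap.baseChange_comp]

section Fitting

variable {R : Type u} [CommRing R] {M : Type u} [AddCommGroup M] [Module R M]

theorem ker_eq_of_aeval (T : Module.End R M) (N : ℕ) (Q : R[X]) (hQ : IsUnit (Q.coeff 0))
    (h : aeval T (X ^ N * Q) = 0) {k : ℕ} {y : M} (hy : (T ^ k) y = 0) : (T ^ N) y = 0 := by
  have hc : IsCoprime Q (X ^ k) := by
    apply IsCoprime.pow_right
    obtain ⟨v, hv⟩ := hQ.exists_right_inv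
    refine ⟨C v, -C v * Q.divX, ?_⟩
    conv_lhs => enter [1, 2]; rw [← Polynomial.divX_mul_X_add Q]
    have : C v * C (Q.coeff 0) = (1 : R[X]) := by rw [← map_mul, mul_comm, hv, map_one]
    linear_combination this
  obtain ⟨a, b, hab⟩ := hc
  have e : (X : R[X]) ^ N = a * (X ^ N * Q) + X ^ N * b * X ^ k := by
    linear_combination -((X : R[X]) ^ N) * hab
  have : aeval T ((X : R[X]) ^ N) y = aeval T (a * (X ^ N * Q) + X ^ N * b * X ^ k) y := by
    rw [← e]
  simpa [map_add, map_mul, h, hy, Module.End.mul_apply] using this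

theorem projective_and_bijective_mod [Module.Projective R M] (T : Module.End R M) (N : ℕ) (Q : R[X])
    (hQ : IsUnit (Q.coeff 0)) (h : aeval T (X ^ N * Q) = 0) :
    Module.Projective R (M ⧸ LinearMap.ker (T ^ N)) ∧
      ∀ y : M, ∃ z : M, T z - y ∈ LinearMap.ker (T ^ N) := by
  obtain ⟨v, hv⟩ := hQ.exists_right_inv
  have hc : IsCoprime Q (X ^ N) := by
    apply IsCoprime.pow_right
    refine ⟨C v, -C v * Q.divX, ?_⟩
    conv_lhs => enter [1, 2]; rw [← Polynomial.divX_mul_X_add Q]
    have : C v * C (Q.coeff 0) = (1 : R[X]) := by rw [← map_mul, mul_comm, hv, map_one]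
    linear_combination this
  obtain ⟨a, b, hab⟩ := hc
  have hQ' : ∀ w, (T ^ N) (aeval T Q w) = 0 := fun w => by
    have := congr($h w)
    simpa [map_mul, Module.End.mul_apply] using this
  refine ⟨?_, fun y => ⟨-(v • aeval T Q.divX y), ?_⟩⟩
  · have hker : LinearMap.ker (T ^ N) ≤ LinearMap.ker (aeval T (b * X ^ N)) := fun y hy => by
      rw [LinearMap.mem_ker] at hy
      simp [map_mul, Module.End.mul_apply, hy]
    refine Module.Projective.of_split (Submodule.liftQ _ _ hker) (Submodule.mkQ _) ?_
    refine Submodule.linearMap_qext _ (LinearMap.ext fun y => ?_)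
    simp only [LinearMap.comp_apply, Submodule.mkQ_apply, Submodule.liftQ_apply, LinearMap.id_apply]
    rw [Submodule.Quotient.eq, LinearMap.mem_ker]
    have e : aeval T (b * X ^ N) y - y = - aeval T Q (aeval T a y) := by
      have := DFunLike.congr_fun (congrArg (aeval T) hab) y
      simp only [map_add, LinearMap.add_apply, map_one, Module.End.one_apply] at this
      rw [← Module.End.mul_apply, ← map_mul, mul_comm Q a]
      linear_combination (norm := abel) this
    rw [e, map_neg, hQ', neg_zero]
  · rw [LinearMap.mem_ker]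
    have e : T (-(v • aeval T Q.divX y)) - y = - (v • aeval T Q y) := by
      conv_rhs => rw [← Polynomial.divX_mul_X_add Q]
      have hTc : aeval T (Q.divX * X) y = T (aeval T Q.divX y) := by
        rw [mul_comm, map_mul, Module.End.mul_apply, aeval_X]
      rw [map_add, LinearMap.add_apply, hTc, aeval_C, Module.algebraMap_end_apply, smul_add,
        smul_smul, mul_comm, hv, one_smul, map_neg, map_smul]
      abel
    rw [e, map_neg, map_smul, hQ', smul_zero, neg_zero]

/-- For a unit-constant-term annihilating polynomial, `T` is bijective. -/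
theorem bijective_of_aeval (T : Module.End R M) (Q : R[X]) (hQ : IsUnit (Q.coeff 0))
    (h : aeval T Q = 0) : Function.Bijective T := by
  obtain ⟨v, hv⟩ := hQ.exists_right_inv
  have e : ∀ y, T (aeval T Q.divX y) + Q.coeff 0 • y = 0 ∧
      aeval T Q.divX (T y) + Q.coeff 0 • y = 0 := fun y => by
    refine ⟨?_, ?_⟩
    · have h1 : aeval T (X * Q.divX + C (Q.coeff 0)) y = 0 := by rw [X_mul_divX_add, h]; rfl
      simpa only [map_add, map_mul, LinearMap.add_apply, Module.End.mul_apply, aeval_X, aeval_C,
        Module.algebraMap_end_apply] using h1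
    · have h1 : aeval T (Q.divX * X + C (Q.coeff 0)) y = 0 := by rw [divX_mul_X_add, h]; rfl
      simpa only [map_add, map_mul, LinearMap.add_apply, Module.End.mul_apply, aeval_X, aeval_C,
        Module.algebraMap_end_apply] using h1
  constructor
  · rw [← LinearMap.ker_eq_bot, Submodule.eq_bot_iff]
    intro y hy
    have := (e y).2
    rw [LinearMap.mem_ker.1 hy, map_zero, zero_add] at this
    simpa [smul_smul, mul_comm v, hv] using congrArg (v • ·) this
  · intro y
    refine ⟨-(v • aeval T Q.divX y), ?_⟩
    rw [map_neg, map_smul, eq_neg_of_add_eq_zero_left (e y).1, smul_neg, neg_neg, smul_smul,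
      mul_comm, hv, one_smul]

end Fitting

end Groth.Agent.CartanRel26
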