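import Groth.Prelude.Def_W4sga3xiixivxvCartan
import Groth.Agent.CartanRel26.FinProj
import Groth.Agent.CartanRel26.FieldLie
import Mathlib.LinearAlgebra.Charpoly.BaseChange
import Mathlib.LinearAlgebra.Matrix.ToLin
import Mathlib.RingTheory.Spectrum.Prime.Topology
import Mathlib.RingTheory.Ideal.GoingDown

/-!
# Fibres of a Lie algebra which is finitely generated projective over a commutative ring
-/

universe u

open scoped TensorProduct
open Polynomial Module LieAlgebra

attribute [local instance 100] LieRing.ofAssociativeRing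

namespace Groth.Agent.CartanRel26

section Base

variable {A : Type u} [CommRing A] {L : Type u} [LieRing L] [LieAlgebra A L]

theorem tlie_add (B K : Type u) [CommRing B] [CommRing K] [Algebra A B] [Algebra B K]
    (x y z : K ⊗[B] (B ⊗[A] L)) : ⁅x, y + z⁆ = ⁅x, y⁆ + ⁅x, z⁆ :=
  lie_add (L := K ⊗[B] (B ⊗[A] L)) (M := K ⊗[B] (B ⊗[A] L)) x y z

theorem tadd_lie (B K : Type u) [CommRing B] [CommRing K] [Algebra A B] [Algebra B K]
    (x y z : K ⊗[B] (B ⊗[A] L)) : ⁅x + y, z⁆ = ⁅x, z⁆ + ⁅y, z⁆ :=
  add_lie x y z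

theorem tlie_zero (B K : Type u) [CommRing B] [CommRing K] [Algebra A B] [Algebra B K]
    (x : K ⊗[B] (B ⊗[A] L)) : ⁅x, (0 : K ⊗[B] (B ⊗[A] L))⁆ = 0 :=
  lie_zero x

theorem ad_one_tmul' (B : Type u) [CommRing B] [Algebra A B] (x : L) :
    ad B (B ⊗[A] L) ((1 : B) ⊗ₜ x) = (ad A L x).baseChange B := by
  ext; simp [LieAlgebra.ExtendScalars.bracket_tmul]

theorem cancel_bracket (B K : Type u) [CommRing B] [CommRing K] [Algebra A B] [Algebra A K]
    [Algebra B K] [IsScalarTower A B K] (x y : K ⊗[B] (B ⊗[A] L)) :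
    TensorProduct.AlgebraTensorModule.cancelBaseChange A B K K L ⁅x, y⁆ =
      ⁅TensorProduct.AlgebraTensorModule.cancelBaseChange A B K K L x,
        TensorProduct.AlgebraTensorModule.cancelBaseChange A B K K L y⁆ := by
  induction x using TensorProduct.induction_on with
  | zero => simp
  | add a a' ha ha' => simp [ha, ha']
  | tmul c a =>
    induction y using TensorProduct.induction_on with
    | zero => rw [tlie_zero, map_zero, lie_zero]
    | add b b' hb hb' => rw [tlie_add, map_add, map_add, lie_add, hb, hb']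
    | tmul d b =>
      induction a using TensorProduct.induction_on with
      | zero => simp
      | add a a' ha ha' =>
        rw [TensorProduct.tmul_add, tadd_lie, map_add, map_add, add_lie, ha, ha']
      | tmul s a =>
        induction b using TensorProduct.induction_on with
        | zero => rw [TensorProduct.tmul_zero, tlie_zero, map_zero, lie_zero]
        | add b b' hb hb' =>
          rw [TensorProduct.tmul_add, tlie_add, map_add, map_add, lie_add, hb, hb']
        | tmul t b =>
          simp only [LieAlgebra.ExtendScalars.bracket_tmul,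
            TensorProduct.AlgebraTensorModule.cancelBaseChange_tmul, smul_mul_smul_comm]

end Base

variable {A : Type u} [CommRing A] (L : Type u) [LieRing L] [LieAlgebra A L]
  [Module.Finite A L] [Module.Projective A L]

/-- The nilpotent rank of the fibre at a prime. -/
noncomputable def rankAt (q : PrimeSpectrum A) : ℕ :=
  LieAlgebra.rank q.asIdeal.ResidueField (q.asIdeal.ResidueField ⊗[A] L)

theorem exists_algHom_residueField (K : Type u) [Field K] [Algebra A K] (q : PrimeSpectrum A)
    (hq : RingHom.ker (algebraMap A K) = q.asIdeal) : ∃ f : q.asIdeal.ResidueField →+* K,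
      f.comp (algebraMap A q.asIdeal.ResidueField) = algebraMap A K := by
  have h2 : q.asIdeal.primeCompl ≤ (IsUnit.submonoid K).comap (algebraMap A K) := fun x hx =>
    isUnit_iff_ne_zero.2 fun h => hx (hq ▸ RingHom.mem_ker.2 h : x ∈ q.asIdeal)
  refine ⟨Ideal.ResidueField.lift q.asIdeal (algebraMap A K) hq.ge h2, ?_⟩
  ext x
  exact Ideal.ResidueField.lift_algebraMap _ _ _ h2 x

variable {L} in
theorem isRegular_field_iff (K : Type u) [Field K] [Algebra A K] (q : PrimeSpectrum A)
    (hq : RingHom.ker (algebraMap A K) = q.asIdeal) :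
    LieAlgebra.rank K (K ⊗[A] L) = rankAt L q ∧
      ∀ a : L, IsRegular K ((1 : K) ⊗ₜ[A] a) ↔
        IsRegular q.asIdeal.ResidueField ((1 : q.asIdeal.ResidueField) ⊗ₜ[A] a) := by
  obtain ⟨f, hf⟩ := exists_algHom_residueField K q hq
  letI := f.toAlgebra
  haveI : IsScalarTower A q.asIdeal.ResidueField K := IsScalarTower.of_algebraMap_eq' hf.symm
  let e := TensorProduct.AlgebraTensorModule.cancelBaseChange A q.asIdeal.ResidueField K K L
  refine ⟨?_, fun a => ?_⟩
  · rw [← rank_equiv K e (cancel_bracket _ _), rank_baseChange]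
    rfl
  · rw [← isRegular_baseChange_iff q.asIdeal.ResidueField K, ← isRegular_equiv_iff K e (cancel_bracket _ _)]
    simp [e]

/-- A presentation of `L` as a direct summand of a free module. -/
structure Pres (A L : Type u) [CommRing A] [AddCommGroup L] [Module A L] where
  n : ℕ
  i : L →ₗ[A] (Fin n → A)
  p : (Fin n → A) →ₗ[A] L
  hpi : p ∘ₗ i = LinearMap.id

theorem nonempty_pres : Nonempty (Pres A L) := by
  obtain ⟨n, f, g, -, -, h⟩ := Module.Finite.exists_comp_eq_id_of_projective A L
  exact ⟨⟨n, g, f, h⟩⟩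

variable {L} (P : Pres A L)

/-- The generators. -/
def Pres.g (j : Fin P.n) : L := P.p (Pi.single j 1)

/-- The matrix of the extended adjoint of a generator (linear part). -/
noncomputable def Pres.G (j : Fin P.n) : Matrix (Fin P.n) (Fin P.n) A :=
  LinearMap.toMatrix' (P.i ∘ₗ ad A L (P.g j) ∘ₗ P.p)

/-- The constant part. -/
noncomputable def Pres.G₀ : Matrix (Fin P.n) (Fin P.n) A :=
  LinearMap.toMatrix' (1 - P.i ∘ₗ P.p)

/-- The matrix of the extended adjoint of the element with coordinates `c`. -/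
noncomputable def Pres.mat (B : Type u) [CommRing B] [Algebra A B] (c : Fin P.n → B) :
    Matrix (Fin P.n) (Fin P.n) B :=
  ∑ j, c j • (P.G j).map (algebraMap A B) + P.G₀.map (algebraMap A B)

/-- The element of `B ⊗ L` with coordinates `c`. -/
noncomputable def Pres.pt (B : Type u) [CommRing B] [Algebra A B] (c : Fin P.n → B) : B ⊗[A] L :=
  ∑ j, c j • ((1 : B) ⊗ₜ[A] P.g j)

theorem Pres.mat_map {B B' : Type u} [CommRing B] [Algebra A B] [CommRing B'] [Algebra A B']
    (φ : B →ₐ[A] B') (c : Fin P.n → B) : (P.mat B c).map φ = P.mat B' (φ ∘ c) := by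
  ext r s
  simp [Pres.mat, Matrix.map_apply, Matrix.sum_apply, map_sum]

theorem Pres.charpoly_mat_map {B B' : Type u} [CommRing B] [Algebra A B] [CommRing B'] [Algebra A B']
    (φ : B →ₐ[A] B') (c : Fin P.n → B) :
    (P.mat B' (φ ∘ c)).charpoly = (P.mat B c).charpoly.map φ.toRingHom := by
  rw [← Matrix.charpoly_map, ← P.mat_map φ c]
  rfl

theorem Pres.pt_map {B : Type u} [CommRing B] [Algebra A B] (a : L) :
    P.pt B (algebraMap A B ∘ P.i a) = (1 : B) ⊗ₜ[A] a := by
  have h : a = ∑ j, P.i a j • P.g j := by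
    conv_lhs => rw [← pi_apply P.hpi a, pi_eq_sum_univ' (P.i a)]
    simp [Pres.g, map_sum, map_smul]
  conv_rhs => rw [h]
  simp [Pres.pt, TensorProduct.tmul_sum, TensorProduct.tmul_smul, Algebra.smul_def]

theorem Pres.exists_pt_eq (B : Type u) [CommRing B] [Algebra A B] (z : B ⊗[A] L) :
    ∃ c, P.pt B c = z := by
  let b := Algebra.TensorProduct.basis B (Pi.basisFun A (Fin P.n))
  refine ⟨b.repr (P.i.baseChange B z), ?_⟩
  have : P.pt B (b.repr (P.i.baseChange B z)) =
      P.p.baseChange B (∑ j, b.repr (P.i.baseChange B z) j • b j) := by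
    simp [Pres.pt, Pres.g, b, map_sum]
  rw [this, b.sum_repr, ← LinearMap.comp_apply, ← LinearMap.baseChange_comp, P.hpi,
    LinearMap.baseChange_id, LinearMap.id_apply]

theorem Pres.charpoly_ext (B : Type u) [CommRing B] [Algebra A B] (c : Fin P.n → B) :
    (ext (P.i.baseChange B) (P.p.baseChange B) (ad B (B ⊗[A] L) (P.pt B c))).charpoly =
      (P.mat B c).charpoly := by
  let b := Algebra.TensorProduct.basis B (Pi.basisFun A (Fin P.n))
  rw [← LinearMap.charpoly_toMatrix _ b]
  congr 1
  have : ext (P.i.baseChange B) (P.p.baseChange B) (ad B (B ⊗[A] L) (P.pt B c)) =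
      ∑ j, c j • (P.i ∘ₗ ad A L (P.g j) ∘ₗ P.p).baseChange B + (1 - P.i ∘ₗ P.p).baseChange B := by
    simp only [ext, Pres.pt, map_sum, map_smul, ad_one_tmul', LinearMap.baseChange_sub,
      LinearMap.baseChange_one, LinearMap.baseChange_comp]
    ext z
    simp [LinearMap.sum_apply, map_sum]
  rw [this]
  simp only [map_add, map_sum, map_smul, b, LinearMap.toMatrix_baseChange,
    LinearMap.toMatrix_eq_toMatrix']
  rfl

theorem Pres.aeval_charpoly (B : Type u) [CommRing B] [Algebra A B] (c : Fin P.n → B) :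
    aeval (ad B (B ⊗[A] L) (P.pt B c)) (P.mat B c).charpoly = 0 := by
  rw [← P.charpoly_ext B c]
  exact aeval_charpoly_ext (by rw [← LinearMap.baseChange_comp, P.hpi, LinearMap.baseChange_id]) _

section Field

variable (K : Type u) [Field K] [Algebra A K] (c : Fin P.n → K)

theorem Pres.finrank_engel :
    finrank K (LieSubalgebra.engel K (P.pt K c)) = (P.mat K c).charpoly.natTrailingDegree := by
  rw [LieAlgebra.finrank_engel, ← P.charpoly_ext K c, ← LinearMap.finrank_maxGenEigenspace_zero_eq,
    ← LinearMap.finrank_maxGenEigenspace_zero_eq,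
    finrank_maxGenEigenspace_ext (by rw [← LinearMap.baseChange_comp, P.hpi, LinearMap.baseChange_id])]

theorem Pres.rank_le : LieAlgebra.rank K (K ⊗[A] L) ≤ (P.mat K c).charpoly.natTrailingDegree :=
  P.finrank_engel K c ▸ LieAlgebra.rank_le_finrank_engel K _

theorem Pres.isRegular_pt_iff :
    IsRegular K (P.pt K c) ↔ (P.mat K c).charpoly.coeff (LieAlgebra.rank K (K ⊗[A] L)) ≠ 0 := by
  rw [isRegular_iff_finrank_engel_eq_rank, P.finrank_engel K c]
  constructor
  · intro h
    rw [← h]
    exact Polynomial.trailingCoeff_nonzero_iff_nonzero.2 (Matrix.charpoly_monic _).ne_zero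
  · intro h
    exact le_antisymm (Polynomial.natTrailingDegree_le_of_ne_zero h) (P.rank_le K c)

end Field

/-- The coefficient detecting regularity of `a` at primes of given rank. -/
noncomputable def Pres.coeffAt (a : L) (r : ℕ) : A := (P.mat A (P.i a)).charpoly.coeff r

theorem Pres.isRegular_fibre_iff (a : L) (q : PrimeSpectrum A) :
    IsRegular q.asIdeal.ResidueField ((1 : q.asIdeal.ResidueField) ⊗ₜ[A] a) ↔
      P.coeffAt a (rankAt L q) ∉ q.asIdeal := by
  rw [← P.pt_map a, P.isRegular_pt_iff]
  have := P.charpoly_mat_map (Algebra.ofId A q.asIdeal.ResidueField) (P.i a)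
  change (P.mat _ (algebraMap A q.asIdeal.ResidueField ∘ P.i a)).charpoly = _ at this
  rw [this, Polynomial.coeff_map]
  exact Ideal.algebraMap_residueField_eq_zero.not

/-- The regular locus of an element is open, the rank being locally constant. -/
theorem exists_nhd_isRegular (q : PrimeSpectrum A)
    (hC0 : ∃ f : A, f ∉ q.asIdeal ∧ ∀ q' : PrimeSpectrum A, f ∉ q'.asIdeal → rankAt L q' = rankAt L q)
    (a : L) (ha : IsRegular q.asIdeal.ResidueField ((1 : q.asIdeal.ResidueField) ⊗ₜ[A] a)) :
    ∃ f : A, f ∉ q.asIdeal ∧ ∀ q' : PrimeSpectrum A, f ∉ q'.asIdeal →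
      IsRegular q'.asIdeal.ResidueField ((1 : q'.asIdeal.ResidueField) ⊗ₜ[A] a) := by
  obtain ⟨P⟩ := nonempty_pres (A := A) L
  obtain ⟨f, hf, hfr⟩ := hC0
  refine ⟨f * P.coeffAt a (rankAt L q),
    fun h => (q.2.mem_or_mem h).elim hf ((P.isRegular_fibre_iff a q).1 ha), fun q' hq' => ?_⟩
  rw [P.isRegular_fibre_iff, hfr q' fun h => hq' (Ideal.mul_mem_right _ _ h)]
  exact fun h => hq' (Ideal.mul_mem_left _ _ h)

end Groth.Agent.CartanRel26
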