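import Groth.Agent.CartanRel26.Fibre
import Groth.Agent.LieNilp26.Basic
import Mathlib.RingTheory.Spectrum.Prime.FreeLocus
import Mathlib.RingTheory.MvPolynomial
import Mathlib.RingTheory.Localization.Away.Basic
import Mathlib.RingTheory.Nilpotent.Lemmas

/-!
# Relative Cartan subalgebras and quasi-regular elements
-/

universe u

open scoped TensorProduct
open Polynomial Module LieAlgebra

attribute [local instance 100] LieRing.ofAssociativeRing

namespace Groth.Agent.CartanRel26

variable {A : Type u} [CommRing A] {L : Type u} [LieRing L] [LieAlgebra A L]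

section Split

variable (W : Submodule A L) [Module.Projective A (L ⧸ W)]

theorem exists_retraction : ∃ r : L →ₗ[A] W, ∀ w : W, r w = w := by
  obtain ⟨s, hs⟩ := Module.projective_lifting_property W.mkQ LinearMap.id W.mkQ_surjective
  have h : ∀ y, y - s (W.mkQ y) ∈ W := fun y => by
    refine (Submodule.Quotient.mk_eq_zero W).1 ?_
    rw [← Submodule.mkQ_apply, map_sub, ← LinearMap.comp_apply W.mkQ s, hs, LinearMap.id_apply,
      sub_self]
  refine ⟨LinearMap.codRestrict W (LinearMap.id - s ∘ₗ W.mkQ) fun y => by simpa using h y, fun w => ?_⟩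
  ext
  simp [(Submodule.Quotient.mk_eq_zero W).2 w.2]

theorem finite_of_split [Module.Finite A L] : Module.Finite A W := by
  obtain ⟨r, hr⟩ := exists_retraction W
  exact Module.Finite.of_surjective r fun w => ⟨w, hr w⟩

theorem projective_of_split [Module.Projective A L] : Module.Projective A W := by
  obtain ⟨r, hr⟩ := exists_retraction W
  exact Module.Projective.of_split W.subtype r (LinearMap.ext hr)

theorem subtype_baseChange_injective (K : Type u) [CommRing K] [Algebra A K] :
    Function.Injective (W.subtype.baseChange K) := by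
  obtain ⟨r, hr⟩ := exists_retraction W
  have : (r.baseChange K) ∘ₗ (W.subtype.baseChange K) = LinearMap.id := by
    rw [← LinearMap.baseChange_comp, show r ∘ₗ W.subtype = LinearMap.id from LinearMap.ext hr,
      LinearMap.baseChange_id]
  exact Function.LeftInverse.injective fun x => congr($this x)

omit [Module.Projective A (L ⧸ W)] in
theorem mem_baseChange_iff_mkQ (K : Type u) [CommRing K] [Algebra A K] (z : K ⊗[A] L) :
    z ∈ W.baseChange K ↔ W.mkQ.baseChange K z = 0 := by
  have hex : Function.Exact W.subtype W.mkQ := LinearMap.exact_subtype_mkQ W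
  exact (lTensor_exact K hex W.mkQ_surjective z).symm

end Split

section Mapq

variable (a : L) (W : Submodule A L) (hW : W ≤ W.comap (ad A L a))

theorem mapQ_baseChange (K : Type u) [CommRing K] [Algebra A K] (z : K ⊗[A] L) :
    (W.mapQ W (ad A L a) hW).baseChange K (W.mkQ.baseChange K z) =
      W.mkQ.baseChange K (ad K (K ⊗[A] L) ((1 : K) ⊗ₜ a) z) := by
  rw [ad_one_tmul', ← LinearMap.comp_apply, ← LinearMap.baseChange_comp, Submodule.mapQ_mkQ,
    LinearMap.baseChange_comp, LinearMap.comp_apply]

theorem mkQ_ad_pow (k : ℕ) (y : L) :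
    W.mkQ (((ad A L a) ^ k) y) = ((W.mapQ W (ad A L a) hW) ^ k) (W.mkQ y) := by
  induction k with
  | zero => simp
  | succ k ih =>
    rw [pow_succ', Module.End.mul_apply, pow_succ', Module.End.mul_apply, ← ih]
    simp

end Mapq

theorem maxGenEigenspace_zero_eq_bot {R M : Type u} [CommRing R] [AddCommGroup M] [Module R M]
    {T : Module.End R M} (hT : Function.Injective T) : T.maxGenEigenspace 0 = ⊥ := by
  rw [Submodule.eq_bot_iff]
  intro z hz
  obtain ⟨k, hk⟩ := (Module.End.mem_maxGenEigenspace _ _ _).1 hz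
  simp only [zero_smul, sub_zero] at hk
  exact (hT.iterate k) (by rw [← Module.End.coe_pow, hk, map_zero])

/-- An endomorphism of a finitely generated projective module is killed by a polynomial whose constant
term is invertible at each prime where the endomorphism is fibrewise injective. -/
theorem exists_annihilator {M : Type u} [AddCommGroup M] [Module A M] [Module.Finite A M]
    [Module.Projective A M] (g : Module.End A M) :
    ∃ Q : A[X], aeval g Q = 0 ∧ ∀ q : PrimeSpectrum A,
      Function.Injective (g.baseChange q.asIdeal.ResidueField) → Q.coeff 0 ∉ q.asIdeal := by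
  obtain ⟨n, p, i, -, -, hpi⟩ := Module.Finite.exists_comp_eq_id_of_projective A M
  refine ⟨(ext i p g).charpoly, aeval_charpoly_ext hpi g, fun q hg => ?_⟩
  have h0 : Module.finrank q.asIdeal.ResidueField
      (Module.End.maxGenEigenspace (g.baseChange q.asIdeal.ResidueField) 0) = 0 := by
    have : Module.End.maxGenEigenspace (g.baseChange q.asIdeal.ResidueField) 0 = ⊥ :=
      maxGenEigenspace_zero_eq_bot hg
    rw [this, finrank_bot]
  rw [← finrank_maxGenEigenspace_ext (i := i.baseChange q.asIdeal.ResidueField)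
      (p := p.baseChange q.asIdeal.ResidueField)
      (by rw [← LinearMap.baseChange_comp, hpi, LinearMap.baseChange_id]),
    ← ext_baseChange, LinearMap.finrank_maxGenEigenspace_zero_eq, LinearMap.charpoly_baseChange] at h0
  intro hmem
  have := Polynomial.trailingCoeff_nonzero_iff_nonzero.2
    (((ext i p g).charpoly_monic.map (algebraMap A q.asIdeal.ResidueField)).ne_zero)
  rw [Polynomial.trailingCoeff, h0, Polynomial.coeff_map] at this
  exact this (Ideal.algebraMap_residueField_eq_zero.2 hmem)

theorem smul_pow_eq_zero {M : Type u} [AddCommGroup M] [Module A M] (g : Module.End A M) (Q : A[X])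
    (hQ : aeval g Q = 0) (k : ℕ) (y : M) (hy : (g ^ k) y = 0) : Q.coeff 0 ^ k • y = 0 := by
  induction k generalizing y with
  | zero => simpa using hy
  | succ k ih =>
    rw [pow_succ, Module.End.mul_apply] at hy
    have h1 := ih _ hy
    have h2 : aeval g (Q.divX * X + C (Q.coeff 0)) y = 0 := by rw [divX_mul_X_add, hQ]; rfl
    simp only [map_add, map_mul, LinearMap.add_apply, Module.End.mul_apply, aeval_X, aeval_C,
      Module.algebraMap_end_apply] at h2
    have h3 : Q.coeff 0 • y = - aeval g Q.divX (g y) := eq_neg_of_add_eq_zero_right h2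
    rw [pow_succ, ← smul_smul, h3, smul_neg, ← map_smul, h1, map_zero, neg_zero]

/-- The fibre Lie homomorphism of a subalgebra. -/
noncomputable def fibreHom (H : LieSubalgebra A L) (K : Type u) [CommRing K] [Algebra A K] :
    K ⊗[A] H →ₗ⁅K⁆ K ⊗[A] L :=
  { H.toSubmodule.subtype.baseChange K with
    map_lie' := fun {x y} => (LieAlgebra.ExtendScalars.map (AlgHom.id A K) H.incl).map_lie x y }

section Cartan

variable [Module.Finite A L] (H : LieSubalgebra A L) (hH : SGA3t2b.IsCartanRel H)
include hH

theorem ad_pow_mem_eq_zero : ∃ N : ℕ, ∀ a ∈ H, ∀ y ∈ H, ((ad A L a) ^ N) y = 0 := by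
  haveI := hH.1
  haveI : Module.Finite A H := finite_of_split H.toSubmodule
  haveI : LieRing.IsNilpotent H :=
    LieNilp26.isNilpotent_of_residueField (A := A) (L := H) fun p => (hH.2 p).1
  obtain ⟨N, hN⟩ := LieModule.exists_forall_pow_toEnd_eq_zero A H H
  refine ⟨N, fun a ha y hy => ?_⟩
  have e : ∀ (m : ℕ) (w : H), (((LieModule.toEnd A H H ⟨a, ha⟩ ^ m) w : H) : L) =
      (ad A L a ^ m) (w : L) := by
    intro m
    induction m with
    | zero => intro w; simp
    | succ m ih => intro w; rw [pow_succ, Module.End.mul_apply, ih, pow_succ, Module.End.mul_apply]; rfl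
  have h0 := e N ⟨y, hy⟩
  rw [hN ⟨a, ha⟩] at h0
  exact h0.symm

theorem le_engel {a : L} (ha : a ∈ H) : H ≤ LieSubalgebra.engel A a := fun y hy => by
  obtain ⟨N, hN⟩ := ad_pow_mem_eq_zero H hH
  exact (LieSubalgebra.mem_engel_iff A a y).2 ⟨N, hN a ha y hy⟩

theorem fibre_eq_engel [Module.Projective A L] {a : L} (ha : a ∈ H) (q : PrimeSpectrum A)
    (hreg : IsRegular q.asIdeal.ResidueField ((1 : q.asIdeal.ResidueField) ⊗ₜ[A] a)) :
    SGA3t2b.fibreSubmodule q H =
      (LieSubalgebra.engel q.asIdeal.ResidueField ((1 : q.asIdeal.ResidueField) ⊗ₜ[A] a)).toSubmodule := by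
  obtain ⟨N, hN⟩ := ad_pow_mem_eq_zero H hH
  refine Submodule.eq_of_le_of_finrank_le ?_ ?_
  · rw [SGA3t2b.fibreSubmodule, Submodule.baseChange_eq_span, Submodule.span_le]
    rintro _ ⟨y, hy, rfl⟩
    refine (LieSubalgebra.mem_engel_iff _ _ _).2 ⟨N, ?_⟩
    rw [ad_one_tmul', ← LinearMap.baseChange_pow]
    simp [hN a ha y hy]
  · exact ((isRegular_iff_finrank_engel_eq_rank _ _).1 hreg).le.trans (hH.2 q).2.2.ge

/-- The adjoint of `a` on `L/H` is injective in every fibre at which `a` is regular. -/
theorem injective_mapQ_baseChange [Module.Projective A L] {a : L} (ha : a ∈ H)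
    (hW : H.toSubmodule ≤ H.toSubmodule.comap (ad A L a)) (q : PrimeSpectrum A)
    (hreg : IsRegular q.asIdeal.ResidueField ((1 : q.asIdeal.ResidueField) ⊗ₜ[A] a)) :
    Function.Injective ((H.toSubmodule.mapQ H.toSubmodule (ad A L a) hW).baseChange q.asIdeal.ResidueField) := by
  rw [← LinearMap.ker_eq_bot, Submodule.eq_bot_iff]
  intro w hw
  obtain ⟨z, rfl⟩ : ∃ z, H.toSubmodule.mkQ.baseChange q.asIdeal.ResidueField z = w :=
    LinearMap.lTensor_surjective _ H.toSubmodule.mkQ_surjective w
  rw [LinearMap.mem_ker, mapQ_baseChange, ← mem_baseChange_iff_mkQ] at hw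
  rw [← mem_baseChange_iff_mkQ]
  change _ ∈ SGA3t2b.fibreSubmodule q H at hw ⊢
  rw [fibre_eq_engel H hH ha q hreg, LieSubalgebra.mem_toSubmodule, LieSubalgebra.mem_engel_iff] at hw ⊢
  obtain ⟨k, hk⟩ := hw
  exact ⟨k + 1, by rw [pow_succ, Module.End.mul_apply, hk]⟩

/-- Over a basic open where `a` is regular, `H` is the Engel subalgebra of `a`. -/
theorem exists_pow_smul_mem [Module.Projective A L] {a : L} (ha : a ∈ H) (f : A)
    (hreg : ∀ q : PrimeSpectrum A, f ∉ q.asIdeal →
      IsRegular q.asIdeal.ResidueField ((1 : q.asIdeal.ResidueField) ⊗ₜ[A] a))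
    {y : L} (hy : y ∈ LieSubalgebra.engel A a) : ∃ n : ℕ, f ^ n • y ∈ H := by
  haveI := hH.1
  have hW : H.toSubmodule ≤ H.toSubmodule.comap (ad A L a) := fun y hy => H.lie_mem ha hy
  obtain ⟨Q, hQ, hQ0⟩ := exists_annihilator (H.toSubmodule.mapQ H.toSubmodule (ad A L a) hW)
  obtain ⟨k, hk⟩ := (LieSubalgebra.mem_engel_iff A a y).1 hy
  have h1 : Q.coeff 0 ^ k • H.toSubmodule.mkQ y = 0 :=
    smul_pow_eq_zero _ Q hQ k _ (by rw [← mkQ_ad_pow a _ hW, hk, map_zero])
  have hf : f ∈ (Ideal.span {Q.coeff 0}).radical := by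
    refine (PrimeSpectrum.basicOpen_le_basicOpen_iff _ _).1 fun q hq => ?_
    exact hQ0 q (injective_mapQ_baseChange H hH ha hW q (hreg q hq))
  obtain ⟨m, hm⟩ := hf
  obtain ⟨d, hd⟩ := Ideal.mem_span_singleton.1 hm
  refine ⟨m * k, ?_⟩
  rw [← LieSubalgebra.mem_toSubmodule, ← H.toSubmodule.ker_mkQ, LinearMap.mem_ker, map_smul,
    pow_mul, hd, mul_pow, mul_comm, ← smul_smul, h1, smul_zero]

/-- A relative Cartan subalgebra containing a quasi-regular element is its Engel subalgebra. -/
theorem eq_engel [Module.Projective A L] {a : L} (ha : a ∈ H) (hqr : SGA3t2b.IsQuasiRegular A L a) :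
    H = LieSubalgebra.engel A a := by
  refine le_antisymm (le_engel H hH ha) fun y hy => ?_
  obtain ⟨n, hn⟩ := exists_pow_smul_mem H hH ha 1 (fun q _ => hqr q) hy
  simpa using hn

theorem bijective_mapQ [Module.Projective A L] {a : L} (ha : a ∈ H)
    (hW : H.toSubmodule ≤ H.toSubmodule.comap (ad A L a)) (hqr : SGA3t2b.IsQuasiRegular A L a) :
    Function.Bijective (H.toSubmodule.mapQ H.toSubmodule (ad A L a) hW) := by
  haveI := hH.1
  obtain ⟨Q, hQ, hQ0⟩ := exists_annihilator (H.toSubmodule.mapQ H.toSubmodule (ad A L a) hW)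
  refine bijective_of_aeval _ Q ?_ hQ
  by_contra hu
  obtain ⟨m, hm, hmem⟩ := exists_max_ideal_of_mem_nonunits hu
  exact hQ0 ⟨m, hm.isPrime⟩ (injective_mapQ_baseChange H hH ha hW _ (hqr _)) hmem

theorem rankAt_eq_rankAtStalk [Module.Projective A L] (q : PrimeSpectrum A) :
    rankAt L q = Module.rankAtStalk (R := A) H q := by
  haveI := hH.1
  haveI : Module.Finite A H := finite_of_split H.toSubmodule
  haveI : Module.Projective A H := projective_of_split H.toSubmodule
  rw [Module.rankAtStalk_eq, rankAt, ← (hH.2 q).2.2, SGA3t2b.fibreSubmodule, Submodule.baseChange]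
  exact LinearMap.finrank_range_of_inj (subtype_baseChange_injective H.toSubmodule _)

theorem isLocallyConstant_rankAt [Module.Projective A L] : IsLocallyConstant (rankAt (A := A) L) := by
  haveI := hH.1
  haveI : Module.Finite A H := finite_of_split H.toSubmodule
  haveI : Module.Projective A H := projective_of_split H.toSubmodule
  haveI : Module.FinitePresentation A H := Module.finitePresentation_of_projective A H
  rw [show rankAt (A := A) L = Module.rankAtStalk (R := A) H from funext (rankAt_eq_rankAtStalk H hH)]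
  exact Module.isLocallyConstant_rankAtStalk

end Cartan

theorem exists_nhd_of_isLocallyConstant {α : Type*} (F : PrimeSpectrum A → α) (h : IsLocallyConstant F)
    (q : PrimeSpectrum A) :
    ∃ f : A, f ∉ q.asIdeal ∧ ∀ q' : PrimeSpectrum A, f ∉ q'.asIdeal → F q' = F q := by
  obtain ⟨U, hU, hqU, hconst⟩ := IsLocallyConstant.iff_exists_open F |>.1 h q
  obtain ⟨_, ⟨f, rfl⟩, hqf, hfU⟩ :=
    PrimeSpectrum.isTopologicalBasis_basic_opens.exists_subset_of_mem_open hqU hU
  exact ⟨f, hqf, fun q' hq' => hconst q' (hfU hq')⟩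

/-- The Engel subalgebra criterion for a quasi-regular element to be regular. -/
theorem isCartanRel_engel [Module.Finite A L] [Module.Projective A L] (a : L)
    (hqr : SGA3t2b.IsQuasiRegular A L a)
    (hproj : Module.Projective A (L ⧸ (LieSubalgebra.engel A a).toSubmodule))
    (hsurj : ∀ y : L, ∃ z : L, ⁅a, z⁆ - y ∈ LieSubalgebra.engel A a) :
    SGA3t2b.IsCartanRel (LieSubalgebra.engel A a) := by
  haveI := hproj
  refine ⟨hproj, fun q => ?_⟩
  set E := LieSubalgebra.engel A a with hE
  set K := q.asIdeal.ResidueField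
  have hW : E.toSubmodule ≤ E.toSubmodule.comap (ad A L a) := fun y hy =>
    E.lie_mem (LieSubalgebra.self_mem_engel A a) hy
  let g := E.toSubmodule.mapQ E.toSubmodule (ad A L a) hW
  have hgs : Function.Surjective g := fun w => by
    obtain ⟨y, rfl⟩ := E.toSubmodule.mkQ_surjective w
    obtain ⟨z, hz⟩ := hsurj y
    exact ⟨E.toSubmodule.mkQ z, (Submodule.Quotient.eq _).2 hz⟩
  have hgi : Function.Injective (g.baseChange K) :=
    (LinearMap.injective_iff_surjective).2 (LinearMap.lTensor_surjective _ hgs)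
  have heq : SGA3t2b.fibreSubmodule q E =
      (LieSubalgebra.engel K ((1 : K) ⊗ₜ[A] a)).toSubmodule := by
    refine le_antisymm ?_ fun z hz => ?_
    · rw [SGA3t2b.fibreSubmodule, Submodule.baseChange_eq_span, Submodule.span_le]
      rintro _ ⟨y, hy, rfl⟩
      obtain ⟨k, hk⟩ := (LieSubalgebra.mem_engel_iff A a y).1 hy
      refine (LieSubalgebra.mem_engel_iff _ _ _).2 ⟨k, ?_⟩
      rw [ad_one_tmul', ← LinearMap.baseChange_pow]
      simp [hk]
    · obtain ⟨k, hk⟩ := (LieSubalgebra.mem_engel_iff _ _ _).1 hz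
      refine (mem_baseChange_iff_mkQ E.toSubmodule K z).2 ?_
      clear hz
      induction k generalizing z with
      | zero => simp_all
      | succ k ih =>
        rw [pow_succ, Module.End.mul_apply] at hk
        have := ih _ hk
        rw [← mapQ_baseChange a E.toSubmodule hW] at this
        exact hgi (by rw [map_zero]; exact this)
  refine ⟨?_, ?_, ?_⟩
  · haveI := isNilpotent_engel K (hqr q)
    have hmem : ∀ x, fibreHom E K x ∈ LieSubalgebra.engel K ((1 : K) ⊗ₜ[A] a) := fun x => by
      rw [← LieSubalgebra.mem_toSubmodule, ← heq]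
      exact LinearMap.mem_range_self _ x
    refine Function.Injective.lieAlgebra_isNilpotent (R := K)
      (f := ({ toFun := fun x => ⟨fibreHom E K x, hmem x⟩
               map_add' := fun x y => Subtype.ext (map_add (fibreHom E K) x y)
               map_smul' := fun c x => Subtype.ext ((fibreHom E K).map_smul c x)
               map_lie' := fun {x y} => Subtype.ext ((fibreHom E K).map_lie x y) } :
        K ⊗[A] E →ₗ⁅K⁆ LieSubalgebra.engel K ((1 : K) ⊗ₜ[A] a))) ?_
    exact fun x y hxy => subtype_baseChange_injective E.toSubmodule K (congrArg Subtype.val hxy)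
  · intro x hx
    rw [heq] at hx ⊢
    rw [LieSubalgebra.mem_toSubmodule, ← LieSubalgebra.normalizer_engel, LieSubalgebra.mem_normalizer_iff]
    exact fun y hy => hx y hy
  · rw [heq]
    exact (isRegular_iff_finrank_engel_eq_rank K _).1 (hqr q)

end Groth.Agent.CartanRel26
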